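import Cfsg.Agent.H645.PC.Cyc
import Cfsg.Agent.H770.CY.Defs

/-!
# S4829, cyclic Sylow subgroups: automorphisms (helper645)

`P` a cyclic Sylow `p`-subgroup of `S` (trivial centre), `lam : P →* ℂˣ` of order `p`.

* `centralizes_of_lam` : `X / Inn S` a `p'`-group, `b ∈ X` normalizes `P` and fixes `lam`: then `b` centralizes `P`;
* `exists_same` : `A / X` a `p`-group, `b ∈ A` normalizes `P`: some `x ∈ X` normalizing `P` acts on `lam` as `b`.
-/

set_option autoImplicit false
set_option linter.unusedSectionVars false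

open Cfsg Subgroup Cfsg.Agent.M23

namespace Cfsg.Agent.H645.PC

universe u

section aut

variable {S : Type u} [Group S] [Finite S] {p : ℕ} [hp : Fact p.Prime]

/-- an automorphism normalizing the cyclic group `P` is a power map on `P` -/
theorem exists_pow (P : Subgroup S) (hcyc : IsCyclic P) (b : MulAut S) (hb : ∀ x ∈ P, b x ∈ P) :
    ∃ r : ℕ, ∀ x ∈ P, b x = x ^ r := by
  obtain ⟨⟨u, hu⟩, hgen⟩ := hcyc.exists_generator
  obtain ⟨r, hr⟩ := (Submonoid.mem_powers_iff _ _).1 ((mem_powers_iff_mem_zpowers (x := (⟨u, hu⟩ : P))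
    (y := (⟨b u, hb u hu⟩ : P))).2 (hgen ⟨b u, hb u hu⟩))
  have hr' : u ^ r = b u := congrArg Subtype.val hr
  refine ⟨r, fun x hx => ?_⟩
  obtain ⟨k, hk⟩ := mem_zpowers_iff.1 (hgen ⟨x, hx⟩)
  have hk' : u ^ k = x := by
    have := congrArg Subtype.val hk
    simpa using this
  rw [← hk', map_zpow, ← hr', ← zpow_natCast, ← zpow_natCast, ← zpow_mul, ← zpow_mul, mul_comm]

theorem pow_mem_aut (P : Subgroup S) (b : MulAut S) (hb : ∀ x ∈ P, b x ∈ P) (j : ℕ) : ∀ x ∈ P, (b ^ j) x ∈ P := by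
  induction j with
  | zero => intro x hx; simpa using hx
  | succ j ih =>
    intro x hx
    rw [pow_succ, MulAut.mul_apply]
    exact ih _ (hb x hx)

theorem pow_apply_aut (P : Subgroup S) (b : MulAut S) {r : ℕ} (hr : ∀ x ∈ P, b x = x ^ r) (j : ℕ) :
    ∀ x ∈ P, (b ^ j) x = x ^ r ^ j := by
  induction j with
  | zero => intro x hx; simp
  | succ j ih =>
    intro x hx
    rw [pow_succ, MulAut.mul_apply, hr x hx, map_pow, ih x hx, ← pow_mul, ← pow_succ]

theorem inv_mem_aut (P : Subgroup S) (b : MulAut S) (hb : ∀ x ∈ P, b x ∈ P) : ∀ x ∈ P, b⁻¹ x ∈ P := by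
  have h1 : Function.Injective fun x : P => (⟨b x, hb x x.2⟩ : P) := by
    intro x y h
    exact Subtype.ext (b.injective (congrArg Subtype.val h))
  intro x hx
  obtain ⟨y, hy⟩ := (Finite.injective_iff_surjective.1 h1) ⟨x, hx⟩
  have h2 : b y = x := congrArg Subtype.val hy
  rw [← h2, MulAut.inv_apply_self]
  exact y.2

/-- the value of a nontrivial character of exponent `p` on a power -/
theorem modEq_one_of_lam {P : Subgroup S} {lam : P →* ℂˣ} (hlam : lam ≠ 1) (hp' : ∀ y, lam y ^ p = 1) {r : ℕ}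
    (h : ∀ y : P, lam (y ^ r) = lam y) : r ≡ 1 [MOD p] := by
  obtain ⟨y, hy⟩ : ∃ y, lam y ≠ 1 := by
    by_contra hcon
    push Not at hcon
    exact hlam (MonoidHom.ext hcon)
  have h1 : orderOf (lam y) = p := by
    rcases (Nat.dvd_prime (Fact.out : p.Prime)).1 (orderOf_dvd_of_pow_eq_one (hp' y)) with h2 | h2
    · exact absurd (orderOf_eq_one_iff.1 h2) hy
    · exact h2
  have h2 := h y
  rw [map_pow] at h2
  have h3 : lam y ^ r = lam y ^ 1 := by rw [h2, pow_one]
  rw [← h1]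
  exact pow_eq_pow_iff_modEq.1 h3

theorem lam_of_modEq {P : Subgroup S} {lam : P →* ℂˣ} (hp' : ∀ y, lam y ^ p = 1) {r : ℕ} (h : r ≡ 1 [MOD p]) (y : P) :
    lam (y ^ r) = lam y := by
  rw [map_pow]
  have h1 : lam y ^ r = lam y ^ 1 := pow_eq_pow_iff_modEq.2 (h.of_dvd (orderOf_dvd_of_pow_eq_one (hp' y)))
  rw [h1, pow_one]

/-- `b` normalizes `P`, fixes `lam`, and some power of exponent prime to `p` centralizes `P` -/
theorem centralizes_of_pow (hc : center S = ⊥) (P : Subgroup S) (hP : IsPGroup p P) (hcyc : IsCyclic P)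
    {lam : P →* ℂˣ} (hlam : lam ≠ 1) (hp' : ∀ y, lam y ^ p = 1) {b : MulAut S} (hb : ∀ x ∈ P, b x ∈ P)
    (hfix : ∀ y y' : P, (y' : S) = b y → lam y' = lam y) {j : ℕ} (hj : ¬ p ∣ j) (hbj : ∀ x ∈ P, (b ^ j) x = x) :
    ∀ x ∈ P, b x = x := by
  obtain ⟨r, hr⟩ := exists_pow P hcyc b hb
  have h1 : r ≡ 1 [MOD p] := modEq_one_of_lam hlam hp' fun y => hfix y (y ^ r) (by rw [hr y y.2]; simp)
  -- an element of order `p`
  have hP1 : P ≠ ⊥ := by
    rintro rfl
    apply hlam
    ext y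
    rw [Subsingleton.elim y 1]
    simp
  obtain ⟨n, hn⟩ := IsPGroup.iff_card.1 hP
  have hdvd : p ∣ Nat.card P := by
    rw [hn]
    apply dvd_pow_self
    rintro rfl
    rw [pow_zero] at hn
    exact hP1 (eq_bot_of_card_eq _ hn)
  obtain ⟨z, hz⟩ := exists_prime_orderOf_dvd_card' p hdvd
  have hinj : Function.Injective (MulAut.conj : S →* MulAut S) := by
    rw [← MonoidHom.ker_eq_bot_iff, eq_bot_iff, ← hc]
    intro g hg
    rw [mem_center_iff]
    intro h
    have h2 := DFunLike.congr_fun (MonoidHom.mem_ker.1 hg) h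
    rw [MulAut.conj_apply, MulAut.one_apply] at h2
    exact (mul_inv_eq_iff_eq_mul.1 h2).symm
  have hconj : ∀ s : S, b * MulAut.conj s * b⁻¹ = MulAut.conj (b s) := by
    intro s
    ext t
    simp [MulAut.mul_apply, MulAut.conj_apply]
  have hcP : IsCyclic (P.map (MulAut.conj : S →* MulAut S)) :=
    isCyclic_of_surjective (P.equivMapOfInjective _ hinj) (P.equivMapOfInjective _ hinj).surjective
  have hN : b ∈ normalizer ((P.map (MulAut.conj : S →* MulAut S) : Subgroup (MulAut S)) : Set (MulAut S)) := by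
    rw [mem_normalizer_iff]
    intro a
    constructor
    · rintro ⟨s, hs, rfl⟩
      exact ⟨b s, hb s hs, (hconj s).symm⟩
    · rintro ⟨s, hs, h2⟩
      refine ⟨b⁻¹ s, inv_mem_aut P b hb s hs, ?_⟩
      have h3 := hconj (b⁻¹ s)
      rw [MulAut.apply_inv_self, h2] at h3
      have h4 := congrArg (fun w => b⁻¹ * w * b) h3
      simpa [mul_assoc] using h4
  have hC : ∀ c : MulAut S, c ∈ centralizer ((P.map (MulAut.conj : S →* MulAut S) : Subgroup (MulAut S)) : Set (MulAut S)) ↔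
      ∀ x ∈ P, c x = x := by
    intro c
    have hcc : ∀ s : S, c * MulAut.conj s * c⁻¹ = MulAut.conj (c s) := by
      intro s
      ext t
      simp [MulAut.mul_apply, MulAut.conj_apply]
    rw [mem_centralizer_iff]
    constructor
    · intro h x hx
      have h2 := h _ (mem_map_of_mem _ hx)
      apply hinj
      rw [← hcc, ← h2, mul_inv_cancel_right]
    · rintro h _ ⟨x, hx, rfl⟩
      have h2 := hcc x
      rw [h x hx] at h2
      exact (mul_inv_eq_iff_eq_mul.1 h2).symm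
  have h5 := Cfsg.Agent.H641.mem_centralizer_of_fixes (Fact.out : p.Prime) (P := P.map (MulAut.conj : S →* MulAut S))
    (hP.map _) hcP hN hj ((hC _).2 hbj) (x := MulAut.conj (z : S)) (mem_map_of_mem _ z.2)
    (fun h => by
      have h6 : (z : S) = 1 := hinj (by rw [h, map_one])
      have h7 : z = 1 := Subtype.ext h6
      rw [h7, orderOf_one] at hz
      exact (Fact.out : p.Prime).one_lt.ne' hz.symm)
    (by
      rw [hconj, hr z z.2]
      congr 1
      have h6 : z ^ r = z ^ 1 := pow_eq_pow_iff_modEq.2 (hz.symm ▸ h1)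
      have h7 := congrArg Subtype.val h6
      simpa using h7)
  exact (hC b).1 h5

open scoped Pointwise in
/-- an automorphism normalizes `P` after multiplication by an inner one -/
theorem exists_norm (P : Sylow p S) (x : MulAut S) : ∃ s : S, ∀ y ∈ (P : Subgroup S), (MulAut.conj s * x) y ∈ (P : Subgroup S) := by
  obtain ⟨s, hs⟩ := MulAction.exists_smul_eq S (x • P) P
  refine ⟨s, fun y hy => ?_⟩
  rw [← hs]
  change _ ∈ (MulAut.conj s • (x • (P : Subgroup S)) : Subgroup S)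
  exact smul_mem_pointwise_smul _ (MulAut.conj s) _ (smul_mem_pointwise_smul _ x _ hy)

theorem class_conj (θ : IrrCharacter S) (s g : S) : (θ : S → ℂ) (s * g * s⁻¹) = (θ : S → ℂ) g :=
  Characters.Core.isIrr_isClassFunction θ.2 g s

theorem pow_mod (r k : ℕ) : r ^ p ^ k ≡ r [MOD p] := by
  induction k with
  | zero => simp; rfl
  | succ k ih =>
    have h1 : r ^ p ^ (k + 1) = (r ^ p ^ k) ^ p := by rw [← pow_mul, pow_succ]
    rw [h1]
    refine (ih.pow p).trans ?_
    have h2 := ZMod.pow_card (r : ZMod p)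
    rw [← ZMod.natCast_eq_natCast_iff]
    push_cast
    exact h2

/-- what is known of `θ` and `lam` -/
structure Fam (P : Subgroup S) (θ : IrrCharacter S) (lam : P →* ℂˣ) : Prop where
  ne : lam ≠ 1
  pow : ∀ y, lam y ^ p = 1
  iff : ∀ α : MulAut S, (∀ x, x ∈ P → α x ∈ P) →
    ((∀ g, (θ : S → ℂ) (α g) = (θ : S → ℂ) g) ↔ ∃ n ∈ normalizer (P : Set S),
      ∀ y y' : P, (y' : S) = α (n * y * n⁻¹) → lam y' = lam y)

variable {P : Sylow p S} {θ : IrrCharacter S} {lam : (P : Subgroup S) →* ℂˣ}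

/-- **the stabilizer** -/
theorem stab (hc : center S = ⊥) (hcyc : IsCyclic (P : Subgroup S)) (h : Fam (p := p) (P : Subgroup S) θ lam)
    {X : Subgroup (MulAut S)} (hX : ∀ s : S, MulAut.conj s ∈ X) (hpX : ¬ p ∣ (MulAut.conj : S →* MulAut S).range.relIndex X)
    {x : MulAut S} (hx : x ∈ X) (hfix : ∀ g, (θ : S → ℂ) (x g) = (θ : S → ℂ) g) :
    ∃ s : S, ∀ y ∈ (P : Subgroup S), (MulAut.conj s * x) y = y := by
  obtain ⟨s₀, hs₀⟩ := exists_norm P x
  obtain ⟨n, hn, hlam⟩ := (h.iff (MulAut.conj s₀ * x) hs₀).1 fun g => by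
    rw [MulAut.mul_apply, MulAut.conj_apply, class_conj, hfix]
  have hnP : ∀ y ∈ (P : Subgroup S), n * y * n⁻¹ ∈ (P : Subgroup S) := fun y hy => (mem_normalizer_iff.1 hn y).1 hy
  set β : MulAut S := MulAut.conj s₀ * x * MulAut.conj n with hβ
  have hβX : β ∈ X := mul_mem (mul_mem (hX _) hx) (hX _)
  have hβP : ∀ y ∈ (P : Subgroup S), β y ∈ (P : Subgroup S) := fun y hy => hs₀ _ (hnP y hy)
  -- a power of exponent prime to `p` is inner
  have hnorm : ((MulAut.conj : S →* MulAut S).range.subgroupOf X).Normal := ⟨by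
    rintro a ha t
    rw [mem_subgroupOf] at ha ⊢
    obtain ⟨s, hs⟩ := ha
    refine ⟨(t : MulAut S) s, ?_⟩
    ext y
    rw [coe_mul, coe_mul, coe_inv, ← hs]
    simp [MulAut.mul_apply, MulAut.conj_apply]⟩
  have h1 := pow_index_mem ((MulAut.conj : S →* MulAut S).range.subgroupOf X) ⟨β, hβX⟩
  rw [mem_subgroupOf] at h1
  obtain ⟨s, hs⟩ := h1
  have hs' : MulAut.conj s = β ^ (MulAut.conj : S →* MulAut S).range.relIndex X := hs
  have hsN : s ∈ normalizer ((P : Subgroup S) : Set S) := by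
    rw [mem_normalizer_iff]
    have h2 : ∀ y ∈ (P : Subgroup S), (MulAut.conj s) y ∈ (P : Subgroup S) := by
      rw [hs']
      exact pow_mem_aut _ β hβP _
    intro y
    refine ⟨fun hy => h2 y hy, fun hy => ?_⟩
    have h3 := inv_mem_aut (P : Subgroup S) (MulAut.conj s) h2 _ hy
    rw [← MulAut.conj_apply, MulAut.inv_apply_self] at h3
    exact h3
  have hab : ∀ a ∈ (P : Subgroup S), ∀ b ∈ (P : Subgroup S), a * b = b * a := fun a ha b hb =>
    congrArg Subtype.val ((IsCyclic.commGroup (α := (P : Subgroup S))).mul_comm ⟨a, ha⟩ ⟨b, hb⟩)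
  have hPC : (P : Subgroup S) ≤ centralizer ((P : Subgroup S) : Set S) := fun x hx =>
    mem_centralizer_iff.2 fun y hy => hab y hy x hx
  have hnd : ¬ p ∣ (centralizer ((P : Subgroup S) : Set S)).relIndex (normalizer ((P : Subgroup S) : Set S)) := by
    intro h
    have h1 : (P : Subgroup S).relIndex (normalizer ((P : Subgroup S) : Set S)) ∣ (P : Subgroup S).index :=
      ⟨(normalizer ((P : Subgroup S) : Set S)).index, (relIndex_mul_index le_normalizer).symm⟩
    have h2 := relIndex_mul_relIndex _ _ _ hPC (centralizer_le_normalizer ((P : Subgroup S) : Set S))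
    exact P.not_dvd_index ((h.trans (Dvd.intro_left _ h2)).trans h1)
  have hn' : ((centralizer ((P : Subgroup S) : Set S)).subgroupOf (normalizer ((P : Subgroup S) : Set S))).Normal := ⟨fun c hc t => by
    rw [mem_subgroupOf] at hc ⊢
    exact H653.CycGroup.conj_mem_centralizer t.2 hc⟩
  have h2 := pow_index_mem ((centralizer ((P : Subgroup S) : Set S)).subgroupOf (normalizer ((P : Subgroup S) : Set S))) ⟨s, hsN⟩
  rw [mem_subgroupOf] at h2
  have h3 : s ^ (centralizer ((P : Subgroup S) : Set S)).relIndex (normalizer ((P : Subgroup S) : Set S)) ∈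
    centralizer ((P : Subgroup S) : Set S) := h2
  have h4 := centralizes_of_pow hc (P : Subgroup S) P.2 hcyc h.ne h.pow (b := β) hβP
    (fun y y' hy => hlam y y' hy)
    (j := (MulAut.conj : S →* MulAut S).range.relIndex X *
      (centralizer ((P : Subgroup S) : Set S)).relIndex (normalizer ((P : Subgroup S) : Set S)))
    (fun h5 => ((Fact.out : p.Prime).dvd_mul.1 h5).elim hpX hnd) (by
      intro y hy
      rw [pow_mul, ← hs', ← map_pow, MulAut.conj_apply]
      have h5 := mem_centralizer_iff.1 h3 y hy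
      rw [← h5, mul_inv_cancel_right])
  refine ⟨s₀ * x n, fun y hy => ?_⟩
  have h6 : (MulAut.conj (s₀ * x n) * x) y = β y := by
    rw [hβ]
    simp only [MulAut.mul_apply, MulAut.conj_apply, map_mul, map_inv, mul_inv_rev, mul_assoc]
  exact h6.trans (h4 y hy)

/-- **the `p`-part of `A` acts on the orbit of `θ` as `X`** -/
theorem exists_same (hcyc : IsCyclic (P : Subgroup S)) (h : Fam (p := p) (P : Subgroup S) θ lam)
    {A X : Subgroup (MulAut S)} (hXA : X ≤ A) (hX : ∀ s : S, MulAut.conj s ∈ X) (hnX : ∀ a ∈ A, ∀ x ∈ X, a * x * a⁻¹ ∈ X)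
    {k : ℕ} (hk : X.relIndex A = p ^ k) {b : MulAut S} (hb : b ∈ A) :
    ∃ x ∈ X, ∀ g, (θ : S → ℂ) (b g) = (θ : S → ℂ) (x g) := by
  obtain ⟨s₀, hs₀⟩ := exists_norm P b
  set b₁ : MulAut S := MulAut.conj s₀ * b with hb₁
  have hb₁A : b₁ ∈ A := mul_mem (hXA (hX _)) hb
  have hnorm : (X.subgroupOf A).Normal := ⟨fun a ha t => by
    rw [mem_subgroupOf] at ha ⊢
    exact hnX t t.2 a ha⟩
  have h1 := pow_index_mem (X.subgroupOf A) ⟨b₁, hb₁A⟩
  rw [mem_subgroupOf] at h1
  have h1' : b₁ ^ p ^ k ∈ X := by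
    rw [← hk]
    exact h1
  obtain ⟨r, hr⟩ := exists_pow (P : Subgroup S) hcyc b₁ hs₀
  have hx : ∀ y ∈ (P : Subgroup S), (b₁ ^ p ^ k) y ∈ (P : Subgroup S) := pow_mem_aut _ b₁ hs₀ _
  have hxi := inv_mem_aut (P : Subgroup S) (b₁ ^ p ^ k) hx
  have h2 := (h.iff (b₁ * (b₁ ^ p ^ k)⁻¹) (fun y hy => hs₀ _ (hxi y hy))).2 ⟨1, one_mem _, by
    intro y y' hy
    rw [one_mul, inv_one, mul_one, MulAut.mul_apply] at hy
    set w : (P : Subgroup S) := ⟨(b₁ ^ p ^ k)⁻¹ y, hxi y y.2⟩ with hw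
    have h3 : (y : S) = (w : S) ^ r ^ p ^ k := by
      rw [← pow_apply_aut (P : Subgroup S) b₁ hr (p ^ k) w w.2, hw, MulAut.apply_inv_self]
    have h4 : (y' : S) = (w : S) ^ r := by
      rw [hy, hr _ (hxi y y.2)]
    have h5 : y = w ^ r ^ p ^ k := Subtype.ext (by rw [h3]; simp)
    have h6 : y' = w ^ r := Subtype.ext (by rw [h4]; simp)
    rw [h5, h6, map_pow, map_pow]
    exact (pow_eq_pow_iff_modEq.2 ((pow_mod r k).symm.of_dvd (orderOf_dvd_of_pow_eq_one (h.pow w))))⟩
  refine ⟨b₁ ^ p ^ k, h1', fun g => ?_⟩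
  have h3 := h2 ((b₁ ^ p ^ k) g)
  rw [MulAut.mul_apply, MulAut.inv_apply_self] at h3
  rw [← h3, hb₁, MulAut.mul_apply, MulAut.conj_apply, class_conj]

end aut

end Cfsg.Agent.H645.PC
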