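import Cfsg.Agent.S4709
import Cfsg.Agent.M23.BlockInt
import Cfsg.Agent.H368.NB.Cyc
import Cfsg.Agent.H667.BR.Crit
import Cfsg.Agent.H641.CycQuot
import Cfsg.Agent.H641.CycAct

/-!
# S4829, cyclic Sylow subgroups (helper645)

`core` : `P` a cyclic Sylow `p`-subgroup, `1 < |N_G(P) : C_G(P)|`, `|N_G(P) : C_G(P)| + 1 < |P|`. The exceptional
character `θ` of the principal block attached to a linear character `lam` of `P` of order `p` has values in `ℚ(ζ_p)`, and an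
automorphism normalizing `P` fixes `θ` if and only if it fixes `lam` up to an element of `N_G(P)`.
-/

set_option autoImplicit false
set_option linter.unusedSectionVars false

open Cfsg Subgroup Cfsg.Agent.M23

namespace Cfsg.Agent.H645.PC

universe u

section hom

variable {A : Type*} [Group A] [Fintype A]

theorem sum_hom_eq_zero {ψ : A →* ℂˣ} (h : ψ ≠ 1) : ∑ y : A, ((ψ y : ℂˣ) : ℂ) = 0 := by
  have h1 : ((Units.coeHom ℂ).comp ψ : A →* ℂ) ≠ 1 := by
    intro h2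
    apply h
    ext y
    exact DFunLike.congr_fun h2 y
  exact sum_hom_units_eq_zero _ h1

theorem sum_mul_inv_eq (ψ ψ' : A →* ℂˣ) (h : ψ' ≠ ψ) : ∑ y : A, ((ψ' y : ℂˣ) : ℂ) * (((ψ y)⁻¹ : ℂˣ) : ℂ) = 0 := by
  have h1 : ψ' * ψ⁻¹ ≠ 1 := fun h2 => h (mul_inv_eq_one.1 h2)
  rw [← sum_hom_eq_zero h1]
  refine Finset.sum_congr rfl fun y _ => ?_
  simp

theorem sum_mul_inv_self (ψ : A →* ℂˣ) : ∑ y : A, ((ψ y : ℂˣ) : ℂ) * (((ψ y)⁻¹ : ℂˣ) : ℂ) = Fintype.card A := by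
  rw [Finset.sum_congr rfl fun y _ => by rw [← Units.val_mul, mul_inv_cancel, Units.val_one]]
  simp

/-- the difference of the multiplicities of `ψ` and `1` times the order -/
noncomputable def D (χ : A → ℂ) (ψ : A →* ℂˣ) : ℂ := ∑ y : A, χ y * ((((ψ y)⁻¹ : ℂˣ) : ℂ) - 1)

theorem D_congr {χ χ' : A → ℂ} (ψ : A →* ℂˣ) (h : ∀ y, y ≠ 1 → χ y = χ' y) : D χ ψ = D χ' ψ := by
  refine Finset.sum_congr rfl fun y _ => ?_
  by_cases hy : y = 1
  · rw [hy]; simp
  · rw [h y hy]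

theorem D_equiv (e : A ≃ A) {χ χ' : A → ℂ} {ψ ψ' : A →* ℂˣ} (h1 : ∀ y, χ' y = χ (e y)) (h2 : ∀ y, ψ' y = ψ (e y)) :
    D χ' ψ' = D χ ψ := by
  unfold D
  rw [← Equiv.sum_comp e fun y => χ y * ((((ψ y)⁻¹ : ℂˣ) : ℂ) - 1)]
  exact Finset.sum_congr rfl fun y _ => by rw [h1, h2]

theorem D_const (a : ℂ) {ψ : A →* ℂˣ} (h : ψ ≠ 1) : D (fun _ => a) ψ = - a * Fintype.card A := by
  have h1 : ψ⁻¹ ≠ 1 := fun h2 => h (by
    ext y
    have h3 := DFunLike.congr_fun h2 y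
    rw [MonoidHom.inv_apply, MonoidHom.one_apply, inv_eq_one] at h3
    rw [h3]
    rfl)
  have h2 := sum_hom_eq_zero h1
  unfold D
  rw [← Finset.mul_sum, Finset.sum_sub_distrib]
  have h3 : ∑ y : A, (((ψ y)⁻¹ : ℂˣ) : ℂ) = 0 := by
    rw [← h2]
    exact Finset.sum_congr rfl fun y _ => by simp
  rw [h3]
  simp

theorem D_add (χ χ' : A → ℂ) (ψ : A →* ℂˣ) : D (fun y => χ y + χ' y) ψ = D χ ψ + D χ' ψ := by
  unfold D
  rw [← Finset.sum_add_distrib]
  exact Finset.sum_congr rfl fun y _ => by ring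

theorem D_mul (a : ℂ) (χ : A → ℂ) (ψ : A →* ℂˣ) : D (fun y => a * χ y) ψ = a * D χ ψ := by
  unfold D
  rw [Finset.mul_sum]
  exact Finset.sum_congr rfl fun y _ => by ring

theorem D_sum {ι : Type*} (s : Finset ι) (f : ι → A → ℂ) (ψ : A →* ℂˣ) :
    D (fun y => ∑ i ∈ s, f i y) ψ = ∑ i ∈ s, D (f i) ψ := by
  unfold D
  rw [Finset.sum_comm]
  exact Finset.sum_congr rfl fun y _ => by rw [Finset.sum_mul]

open Classical in
theorem D_hom {ψ ψ' : A →* ℂˣ} (h' : ψ' ≠ 1) :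
    D (fun y => ((ψ' y : ℂˣ) : ℂ)) ψ = if ψ' = ψ then (Fintype.card A : ℂ) else 0 := by
  unfold D
  rw [Finset.sum_congr rfl fun y _ => mul_sub _ _ _, Finset.sum_sub_distrib]
  rw [Finset.sum_congr rfl fun y _ => mul_one _, sum_hom_eq_zero h', sub_zero]
  split_ifs with h
  · subst h; exact sum_mul_inv_self ψ'
  · exact sum_mul_inv_eq ψ ψ' h

open Classical in
theorem D_orb {S : Set (A →* ℂˣ)} (hS : S.Finite) (h1 : (1 : A →* ℂˣ) ∉ S) (ψ : A →* ℂˣ) :
    D (fun y => ∑ᶠ ψ' ∈ S, ((ψ' y : ℂˣ) : ℂ)) ψ = if ψ ∈ S then (Fintype.card A : ℂ) else 0 := by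
  have h2 : (fun y : A => ∑ᶠ ψ' ∈ S, ((ψ' y : ℂˣ) : ℂ)) = fun y => ∑ ψ' ∈ hS.toFinset, ((ψ' y : ℂˣ) : ℂ) := by
    funext y
    exact finsum_mem_eq_finite_toFinset_sum _ hS
  rw [h2, D_sum, Finset.sum_congr rfl fun ψ' hψ' => D_hom (ψ := ψ) (fun h3 : ψ' = 1 => h1 (h3 ▸ hS.mem_toFinset.1 hψ'))]
  rw [Finset.sum_ite_eq']
  simp [hS.mem_toFinset]

end hom

section core

variable {G : Type u} [Group G] [Finite G] {p : ℕ} [hp : Fact p.Prime] {M : Ideal AlgInt}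

/-- the data of S4709, in terms of the numbers `D` -/
theorem exists_data (hM : IsPModular p M) (P : Sylow p G) [Fintype (P : Subgroup G)] (hcyc : IsCyclic (P : Subgroup G))
    {m : ℕ} (hm1 : 1 < m) (hm2 : m + 1 < Nat.card (P : Subgroup G))
    (hCN : (centralizer ((P : Subgroup G) : Set G)).relIndex (normalizer ((P : Subgroup G) : Set G)) = m) :
    ∃ (d δ : ℂ) (ζ : (↥(P : Subgroup G) →* ℂˣ) → IrrCharacter G) (O : (↥(P : Subgroup G) →* ℂˣ) → Set (↥(P : Subgroup G) →* ℂˣ)),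
      δ ≠ 0 ∧
      (∀ ψ, O ψ = {ψ' : ↥(P : Subgroup G) →* ℂˣ | ∃ n : G, n ∈ normalizer ((P : Subgroup G) : Set G) ∧
        ∀ w w' : ↥(P : Subgroup G), (w' : G) = n * w * n⁻¹ → ψ' w' = ψ w}) ∧
      (∀ ψ, ψ ≠ 1 → ζ ψ ∈ principalBlock M G) ∧
      (∀ ψ ψ', ψ ≠ 1 → ψ' ∈ O ψ → ζ ψ' = ζ ψ) ∧
      (∀ ψ, ψ ≠ 1 → ∀ ψ', ψ' ≠ 1 → ψ' ∈ O ψ →
        D (fun y : (P : Subgroup G) => (ζ ψ : G → ℂ) y) ψ' = (Nat.card (P : Subgroup G) : ℂ) * (δ - d)) ∧
      (∀ ψ, ψ ≠ 1 → ∀ ψ', ψ' ≠ 1 → ψ' ∉ O ψ →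
        D (fun y : (P : Subgroup G) => (ζ ψ : G → ℂ) y) ψ' = (Nat.card (P : Subgroup G) : ℂ) * (- d)) ∧
      (∀ ψ, ψ ≠ 1 → ∃ ψ', ψ' ≠ 1 ∧ ψ' ∉ O ψ) ∧
      (∀ χ ∈ principalBlock M G, (∃ ψ, ψ ≠ 1 ∧ ζ ψ = χ) ∨
        ∃ c : ℂ, ∀ ψ', ψ' ≠ 1 → D (fun y : (P : Subgroup G) => (χ : G → ℂ) y) ψ' = c) := by
  classical
  have hpp : p.Prime := Fact.out
  have hP1 : (P : Subgroup G) ≠ ⊥ := by
    intro h
    rw [h, card_bot] at hm2
    omega
  have hab : IsMulCommutative (P : Subgroup G) := ⟨⟨fun a b => (IsCyclic.commGroup (α := (P : Subgroup G))).mul_comm a b⟩⟩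
  have hPC : (P : Subgroup G) ≤ centralizer ((P : Subgroup G) : Set G) := fun x hx =>
    mem_centralizer_iff.2 fun y hy => congrArg Subtype.val (hab.1.1 ⟨y, hy⟩ ⟨x, hx⟩)
  have hnd : ¬ p ∣ (centralizer ((P : Subgroup G) : Set G)).relIndex (normalizer ((P : Subgroup G) : Set G)) := by
    intro h
    have h1 : (P : Subgroup G).relIndex (normalizer ((P : Subgroup G) : Set G)) ∣ (P : Subgroup G).index :=
      ⟨(normalizer ((P : Subgroup G) : Set G)).index, (relIndex_mul_index le_normalizer).symm⟩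
    have h2 := relIndex_mul_relIndex _ _ _ hPC (centralizer_le_normalizer ((P : Subgroup G) : Set G))
    exact P.not_dvd_index ((h.trans (Dvd.intro_left _ h2)).trans h1)
  have hn : ((centralizer ((P : Subgroup G) : Set G)).subgroupOf (normalizer ((P : Subgroup G) : Set G))).Normal := ⟨fun c hc t => by
    rw [mem_subgroupOf] at hc ⊢
    exact H653.CycGroup.conj_mem_centralizer t.2 hc⟩
  obtain ⟨hq, hdvd⟩ := Cfsg.Agent.H641.isCyclic_quotient_and_dvd hpp P.2 hP1 hcyc le_rfl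
    (centralizer_le_normalizer _) hnd
  have hfrob : ∀ y : G, y ∈ (P : Subgroup G) → y ≠ 1 → centralizer ({y} : Set G) ⊓ normalizer ((P : Subgroup G) : Set G) =
      centralizer ((P : Subgroup G) : Set G) := by
    intro y hy hy1
    apply le_antisymm
    · rintro g ⟨hg1, hg2⟩
      refine Cfsg.Agent.H641.mem_centralizer_of_relIndex hpp P.2 hcyc le_rfl (centralizer_le_normalizer _) hnd hg2 hy hy1 ?_
      have h2 := mem_centralizer_singleton_iff.1 hg1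
      rw [h2, mul_inv_cancel_right]
    · intro g hg
      exact ⟨mem_centralizer_singleton_iff.2 (mem_centralizer_iff.1 hg y hy).symm, centralizer_le_normalizer _ hg⟩
  have hgen : ∃ g : G, g ∈ normalizer ((P : Subgroup G) : Set G) ∧
      centralizer ((P : Subgroup G) : Set G) ⊔ zpowers g = normalizer ((P : Subgroup G) : Set G) := by
    obtain ⟨g, hg⟩ := hq.exists_generator
    induction g using QuotientGroup.induction_on with | _ t₀
    refine ⟨t₀, t₀.2, le_antisymm (sup_le (centralizer_le_normalizer _) (zpowers_le.2 t₀.2)) fun x hx => ?_⟩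
    obtain ⟨i, hi⟩ := mem_zpowers_iff.mp (hg (QuotientGroup.mk ⟨x, hx⟩))
    have h1 : (t₀ ^ i)⁻¹ * (⟨x, hx⟩ : normalizer ((P : Subgroup G) : Set G)) ∈
        (centralizer ((P : Subgroup G) : Set G)).subgroupOf (normalizer ((P : Subgroup G) : Set G)) := by
      rw [← QuotientGroup.eq]
      exact hi
    have h2 : ((t₀ : G) ^ i)⁻¹ * x ∈ centralizer ((P : Subgroup G) : Set G) := by
      have := mem_subgroupOf.1 h1
      simpa using this
    have h3 : x = (t₀ : G) ^ i * (((t₀ : G) ^ i)⁻¹ * x) := by group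
    rw [h3]
    exact mul_mem (mem_sup_right (zpow_mem (mem_zpowers _) i)) (mem_sup_left h2)
  obtain ⟨s, X, Y, -, hXY, hdis, -, hYc, -, a, d, δ, ζ, hδ, hXv, hζY, hYζ, hcj, hval, -⟩ := S4709.result p M hM P hab
    (fun h => hP1 (eq_bot_of_card_eq _ h)) m hm1 hm2 hCN hgen hfrob
  have hfin : Finite (↥(P : Subgroup G) →* ℂˣ) := by
    have : Finite (↥(P : Subgroup G) →* ℂˣ) := inferInstance
    exact this
  have hpart : ∀ y : (P : Subgroup G), IsPPart p (y : G) (y : G) := by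
    intro y
    obtain ⟨k, hk⟩ := IsPGroup.iff_orderOf.1 P.2 y
    refine ⟨1, mul_one _, Commute.one_right _, ⟨k, by rw [← hk, orderOf_coe]⟩, ?_⟩
    rw [orderOf_one]
    exact hpp.not_dvd_one
  have hval' : ∀ ψ : ↥(P : Subgroup G) →* ℂˣ, ψ ≠ 1 → ∀ y : (P : Subgroup G), y ≠ 1 → (ζ ψ : G → ℂ) y = (d : ℂ) + (δ : ℂ) *
      ∑ᶠ ψ' ∈ {ψ' : ↥(P : Subgroup G) →* ℂˣ | ∃ n : G, n ∈ normalizer ((P : Subgroup G) : Set G) ∧
        ∀ w w' : ↥(P : Subgroup G), (w' : G) = n * w * n⁻¹ → ψ' w' = ψ w}, ((ψ' y : ℂˣ) : ℂ) := by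
    intro ψ hψ y hy
    exact hval ψ hψ y y (hpart y) (fun h => hy (Subtype.ext h))
  have h1O : ∀ ψ : ↥(P : Subgroup G) →* ℂˣ, ψ ≠ 1 → (1 : ↥(P : Subgroup G) →* ℂˣ) ∉ {ψ' : ↥(P : Subgroup G) →* ℂˣ | ∃ n : G, n ∈ normalizer ((P : Subgroup G) : Set G) ∧
        ∀ w w' : ↥(P : Subgroup G), (w' : G) = n * w * n⁻¹ → ψ' w' = ψ w} := by
    rintro ψ hψ ⟨n, hn1, hn2⟩
    apply hψ
    ext w
    have h1 : n * (w : G) * n⁻¹ ∈ (P : Subgroup G) := (mem_normalizer_iff.1 hn1 w).1 w.2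
    have h2 := hn2 w ⟨_, h1⟩ rfl
    rw [← h2]
    rfl
  have hDζ : ∀ ψ : ↥(P : Subgroup G) →* ℂˣ, ψ ≠ 1 → ∀ ψ', ψ' ≠ 1 → D (fun y : (P : Subgroup G) => (ζ ψ : G → ℂ) y) ψ' =
      - d * Fintype.card (P : Subgroup G) + δ * (if ψ' ∈ {ψ' : ↥(P : Subgroup G) →* ℂˣ | ∃ n : G, n ∈ normalizer ((P : Subgroup G) : Set G) ∧
        ∀ w w' : ↥(P : Subgroup G), (w' : G) = n * w * n⁻¹ → ψ' w' = ψ w} then (Fintype.card (P : Subgroup G) : ℂ) else 0) := by
    intro ψ hψ ψ' hψ'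
    rw [D_congr ψ' (hval' ψ hψ), D_add, D_mul, D_const _ hψ', D_orb (Set.toFinite _) (h1O ψ hψ)]
  refine ⟨d, δ, ζ, fun ψ => _, ?_, fun ψ => rfl, fun ψ hψ => ?_, fun ψ ψ' hψ h => hcj ψ ψ' hψ h, ?_, ?_, ?_, ?_⟩
  · rcases hδ with h | h <;> rw [h] <;> norm_num
  · rw [hXY]; exact Or.inr (hζY ψ hψ)
  · intro ψ hψ ψ' hψ' hO
    rw [hDζ ψ hψ ψ' hψ', if_pos hO, Nat.card_eq_fintype_card]
    ring
  · intro ψ hψ ψ' hψ' hO
    rw [hDζ ψ hψ ψ' hψ', if_neg hO, Nat.card_eq_fintype_card]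
    ring
  · intro ψ hψ
    have hfI := Characters.Core.finite_irr (G := G)
    have h1 : 1 < Nat.card Y := by
      rw [hYc]
      obtain ⟨n, hn'⟩ := IsPGroup.iff_card.mp P.2
      have h2 : m ∣ Nat.card (P : Subgroup G) - 1 := by
        rw [hn', ← hCN]
        exact hdvd.trans (Nat.sub_one_dvd_pow_sub_one p n)
      obtain ⟨c, hc⟩ := h2
      rw [hc, Nat.mul_div_cancel_left _ (by omega)]
      by_contra h3
      have h4 : c ≤ 1 := by omega
      have h5 : m * c ≤ m * 1 := Nat.mul_le_mul_left _ h4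
      omega
    have h2 : Nontrivial Y := Finite.one_lt_card_iff_nontrivial.1 h1
    obtain ⟨⟨η, hη⟩, hne⟩ := exists_ne (⟨ζ ψ, hζY ψ hψ⟩ : Y)
    obtain ⟨ψ', h3, h4⟩ := hYζ η hη
    exact ⟨ψ', h3, fun h5 => hne (Subtype.ext (h4.symm.trans (hcj ψ ψ' hψ h5)))⟩
  · intro χ hχ
    rw [hXY] at hχ
    rcases hχ with hχ | hχ
    · right
      refine ⟨- (a χ : ℂ) * Fintype.card (P : Subgroup G), fun ψ' hψ' => ?_⟩
      rw [← D_const _ hψ']
      exact D_congr ψ' fun y hy => (hXv χ hχ).2 y y (hpart y) y.2 (fun h => hy (Subtype.ext h))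
    · exact Or.inl (hYζ χ hχ)

theorem exists_lam (P : Sylow p G) (hcyc : IsCyclic (P : Subgroup G)) (hP : (P : Subgroup G) ≠ ⊥) :
    ∃ lam : ↥(P : Subgroup G) →* ℂˣ, lam ≠ 1 ∧ ∀ y, lam y ^ p = 1 := by
  let _ : CommGroup (P : Subgroup G) := IsCyclic.commGroup
  obtain ⟨e⟩ := CommGroup.monoidHom_mulEquiv_of_hasEnoughRootsOfUnity (P : Subgroup G) ℂ
  have h1 : p ∣ Nat.card (P : Subgroup G) := by
    obtain ⟨n, hn⟩ := IsPGroup.iff_card.mp P.2
    rw [hn]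
    apply dvd_pow_self
    rintro rfl
    rw [pow_zero] at hn
    exact hP (eq_bot_of_card_eq _ hn)
  obtain ⟨x, hx⟩ := exists_prime_orderOf_dvd_card' p h1
  refine ⟨e.symm x, ?_, fun y => ?_⟩
  · intro h
    have h2 : x = 1 := by
      have := congrArg e h
      simpa using this
    rw [h2, orderOf_one] at hx
    exact (Fact.out : p.Prime).one_lt.ne' hx.symm
  · have h3 : x ^ p = 1 := orderOf_dvd_iff_pow_eq_one.1 (dvd_of_eq hx)
    have h2 : (e.symm x) ^ p = 1 := by rw [← map_pow, h3, map_one]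
    exact DFunLike.congr_fun h2 y

/-- **The family.** The characters attached to the linear characters of order `p`. -/
theorem exists_theta (hM : IsPModular p M) (P : Sylow p G) (hcyc : IsCyclic (P : Subgroup G))
    {m : ℕ} (hm1 : 1 < m) (hm2 : m + 1 < Nat.card (P : Subgroup G))
    (hCN : (centralizer ((P : Subgroup G) : Set G)).relIndex (normalizer ((P : Subgroup G) : Set G)) = m) :
    ∃ (θ : IrrCharacter G) (lam : ↥(P : Subgroup G) →* ℂˣ), θ ∈ principalBlock M G ∧ lam ≠ 1 ∧ (∀ y, lam y ^ p = 1) ∧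
      ¬ p ∣ charDegree (θ : G → ℂ) ∧ (θ : G → ℂ) ≠ (fun _ => 1) ∧
      (∀ k : ℕ, Nat.Coprime k (Nat.card G) → k ≡ 1 [MOD p] → ∀ g : G, (θ : G → ℂ) (g ^ k) = (θ : G → ℂ) g) ∧
      ∀ α : MulAut G, (∀ x, x ∈ (P : Subgroup G) → α x ∈ (P : Subgroup G)) →
        ((∀ g, (θ : G → ℂ) (α g) = (θ : G → ℂ) g) ↔ ∃ n ∈ normalizer ((P : Subgroup G) : Set G),
          ∀ y y' : (P : Subgroup G), (y' : G) = α (n * y * n⁻¹) → lam y' = lam y) := by
  classical
  have := Fintype.ofFinite (P : Subgroup G)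
  have hpp : p.Prime := Fact.out
  obtain ⟨d, δ, ζ, O, hδ, hO, hB, hcj, hD1, hD2, hne, hch⟩ := exists_data hM P hcyc hm1 hm2 hCN
  have hcard : (Nat.card (P : Subgroup G) : ℂ) ≠ 0 := Nat.cast_ne_zero.2 Nat.card_pos.ne'
  -- a linear character of order `p`
  obtain ⟨lam, hlam1, hlamp⟩ : ∃ lam : ↥(P : Subgroup G) →* ℂˣ, lam ≠ 1 ∧ ∀ y, lam y ^ p = 1 := exists_lam P hcyc (by
    intro h
    rw [h, card_bot] at hm2
    omega)
  -- uniqueness
  have huniq : ∀ χ ∈ principalBlock M G, ∀ ψ ψ₀ : ↥(P : Subgroup G) →* ℂˣ, ψ ≠ 1 → ψ₀ ≠ 1 →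
      D (fun y : (P : Subgroup G) => (χ : G → ℂ) y) ψ = (Nat.card (P : Subgroup G) : ℂ) * (δ - d) →
      D (fun y : (P : Subgroup G) => (χ : G → ℂ) y) ψ₀ = (Nat.card (P : Subgroup G) : ℂ) * (- d) → χ = ζ ψ := by
    intro χ hχ ψ ψ₀ hψ hψ₀ h1 h2
    rcases hch χ hχ with ⟨μ, hμ, rfl⟩ | ⟨c, hc⟩
    · by_cases h3 : ψ ∈ O μ
      · exact (hcj μ ψ hμ h3).symm
      · rw [hD2 μ hμ ψ hψ h3] at h1
        have h4 := mul_left_cancel₀ hcard h1
        exact absurd (by linear_combination - h4) hδ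
    · rw [hc ψ hψ] at h1
      rw [hc ψ₀ hψ₀] at h2
      have h4 := mul_left_cancel₀ hcard (h1.symm.trans h2)
      exact absurd (by linear_combination h4) hδ
  have hmemO : lam ∈ O lam := by
    rw [hO]
    refine ⟨1, one_mem _, fun w w' h => ?_⟩
    have : w' = w := Subtype.ext (by rw [h]; group)
    rw [this]
  obtain ⟨ψ₀, hψ₀, hψ₀O⟩ := hne lam hlam1
  have hDθ := hD1 lam hlam1 lam hlam1 hmemO
  have hDθ₀ := hD2 lam hlam1 ψ₀ hψ₀ hψ₀O
  refine ⟨ζ lam, lam, hB lam hlam1, hlam1, hlamp, H368.NBSq.not_dvd_degree_of_cyclic hM P hcyc (hB lam hlam1), ?_, ?_, ?_⟩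
  · intro h1
    rw [h1] at hDθ hDθ₀
    rw [D_const 1 hlam1] at hDθ
    rw [D_const 1 hψ₀] at hDθ₀
    have h4 := mul_left_cancel₀ hcard (hDθ.symm.trans hDθ₀)
    exact absurd (by linear_combination h4) hδ
  · intro k hk hk1 g
    -- the power map on `P`
    have hkP : (Nat.card (P : Subgroup G)).Coprime k := (hk.coprime_dvd_right (card_subgroup_dvd_card _)).symm
    let e : (P : Subgroup G) ≃ (P : Subgroup G) := powCoprime hkP
    have h1 : BlockInt.powIrr hk (ζ lam) ∈ principalBlock M G := BlockInt.powIrr_mem hk (hB lam hlam1)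
    have h2 : ∀ ψ : ↥(P : Subgroup G) →* ℂˣ,
        D (fun y : (P : Subgroup G) => (BlockInt.powIrr hk (ζ lam) : G → ℂ) y) (ψ ^ k) =
          D (fun y : (P : Subgroup G) => (ζ lam : G → ℂ) y) ψ := by
      intro ψ
      refine D_equiv e (fun y => ?_) (fun y => ?_)
      · change _ = (ζ lam : G → ℂ) ((y ^ k : (P : Subgroup G)) : G)
        rw [BlockInt.powIrr_apply, SubmonoidClass.coe_pow]
      · change _ = ψ (y ^ k)
        rw [map_pow]
        rfl
    have h3 : lam ^ k = lam := by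
      ext y
      have h4 : lam y ^ k = lam y ^ 1 := pow_eq_pow_iff_modEq.2 (hk1.of_dvd (orderOf_dvd_of_pow_eq_one (hlamp y)))
      rw [MonoidHom.pow_apply, h4, pow_one]
    have h4 : ψ₀ ^ k ≠ 1 := by
      intro h5
      apply hψ₀
      ext y
      obtain ⟨x, rfl⟩ := e.surjective y
      have h6 := DFunLike.congr_fun h5 x
      change ((ψ₀ (x ^ k) : ℂˣ) : ℂ) = _
      rw [map_pow]
      exact congrArg Units.val h6
    have h5 := huniq _ h1 lam (ψ₀ ^ k) hlam1 h4 (by rw [← hDθ, ← h2 lam, h3]) (by rw [h2 ψ₀, hDθ₀])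
    exact congrFun (congrArg Subtype.val h5) g
  · intro α hα
    -- the restriction of `α`
    have hαe : ∀ x : (P : Subgroup G), ∃ y : (P : Subgroup G), α y = x := by
      have h1 : Function.Injective fun x : (P : Subgroup G) => (⟨α x, hα x x.2⟩ : (P : Subgroup G)) := by
        intro x y h
        exact Subtype.ext (α.injective (congrArg Subtype.val h))
      intro x
      obtain ⟨y, hy⟩ := (Finite.injective_iff_surjective.1 h1) x
      exact ⟨y, congrArg Subtype.val hy⟩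
    let f : (P : Subgroup G) →* (P : Subgroup G) :=
      { toFun := fun x => ⟨α x, hα x x.2⟩
        map_one' := Subtype.ext (map_one α)
        map_mul' := fun x y => Subtype.ext (map_mul α _ _) }
    have hf : Function.Bijective f := by
      refine Function.Injective.bijective_of_finite ?_
      intro x y h
      exact Subtype.ext (α.injective (congrArg Subtype.val h))
    let e : (P : Subgroup G) ≃ (P : Subgroup G) := Equiv.ofBijective f hf
    have h1 : H667.BR.twist α (ζ lam) ∈ principalBlock M G := H667.BR.twist_mem α (hB lam hlam1)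
    have h2 : ∀ ψ : ↥(P : Subgroup G) →* ℂˣ,
        D (fun y : (P : Subgroup G) => (H667.BR.twist α (ζ lam) : G → ℂ) y) (ψ.comp f) =
          D (fun y : (P : Subgroup G) => (ζ lam : G → ℂ) y) ψ :=
      fun ψ => D_equiv e (fun y => rfl) (fun y => rfl)
    have h3 : ∀ ψ : ↥(P : Subgroup G) →* ℂˣ, ψ ≠ 1 → ψ.comp f ≠ 1 := by
      intro ψ hψ h4
      apply hψ
      ext y
      obtain ⟨x, rfl⟩ := hf.2 y
      exact congrArg Units.val (DFunLike.congr_fun h4 x)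
    have h4 := huniq _ h1 (lam.comp f) (ψ₀.comp f) (h3 _ hlam1) (h3 _ hψ₀) (by rw [h2, hDθ]) (by rw [h2, hDθ₀])
    have h5 : lam.comp f ∈ O lam ↔ ∃ n ∈ normalizer ((P : Subgroup G) : Set G),
        ∀ y y' : (P : Subgroup G), (y' : G) = α (n * y * n⁻¹) → lam y' = lam y := by
      rw [hO]
      refine exists_congr fun n => and_congr_right fun hn => ⟨fun h y y' hy => ?_, fun h w w' hw => ?_⟩
      · have h6 : n * (y : G) * n⁻¹ ∈ (P : Subgroup G) := (mem_normalizer_iff.1 hn y).1 y.2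
        have h7 := h y ⟨_, h6⟩ rfl
        rw [← h7]
        exact congrArg lam (Subtype.ext hy)
      · refine h w (f w') ?_
        change α (w' : G) = _
        rw [hw]
    rw [← h5]
    constructor
    · intro h6
      by_contra h7
      have h8 := h2 lam
      have h9 : H667.BR.twist α (ζ lam) = ζ lam := Subtype.ext (funext h6)
      rw [h9, hD2 lam hlam1 _ (h3 _ hlam1) h7, hDθ] at h8
      have h10 := mul_left_cancel₀ hcard h8
      exact hδ (by linear_combination - h10)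
    · intro h6 g
      have h7 := hcj lam _ hlam1 h6
      rw [h7] at h4
      exact congrFun (congrArg Subtype.val h4) g

end core

end Cfsg.Agent.H645.PC
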