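import Cfsg.Agent.H645.PC.Wit
import Cfsg.Agent.H685.CY.Full
import Cfsg.Agent.H776.CY.Noncyc

/-!
# S4829: cyclic Sylow `p`-subgroups, `p` odd (helper645, helper685)

`rowA_cyclic` : `RowA p S` for every nonabelian simple group `S` with cyclic Sylow `p`-subgroups (`p` odd), from the row of
S4857 (needed only for `|P| = p`, `|N(P) : C(P)| = p - 1`); `rowCyc_of` : the row `RowCyc p` of helper776.
-/

set_option autoImplicit false

open Cfsg Subgroup Cfsg.Agent.H770.CY

namespace Cfsg.Agent.H645.PC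

universe u

/-- **cyclic Sylow `p`-subgroups, `p` odd** -/
theorem rowA_cyclic {p : ℕ} [Fact p.Prime] (hp2 : p ≠ 2) {S : Type u} [Group S] [Fintype S] [IsSimpleGroup S]
    (hna : ¬ IsMulCommutative S) (hd : p ∣ Nat.card S) (hc : ∃ Q : Sylow p S, IsCyclic Q)
    (h57 : H685.BR.Row57 p S) : RowA p S := by
  obtain ⟨P, hP⟩ := hc
  exact rowA_cyclic_of' hna hd P hP fun h1 h2 => H685.CY.rowA_of_full hna hp2 P h1 h2 h57

/-- the row `RowCyc p`, from the row of S4857 for all nonabelian simple groups -/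
theorem rowCyc_of' {p : ℕ} [Fact p.Prime] (hp2 : p ≠ 2)
    (h57 : ∀ (X : Type) [Group X] [Finite X] [IsSimpleGroup X], ¬ IsMulCommutative X → p ∣ Nat.card X →
      H685.BR.Row57 p X) : H776.CY.RowCyc p :=
  fun X _ _ _ hna hd hc => rowA_cyclic hp2 hna hd hc (h57 X hna hd)

end Cfsg.Agent.H645.PC
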