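import Cfsg.Agent.H645.PC.AutCyc
import Cfsg.Agent.H685.BR.Defs
import Cfsg.Agent.H362.CY.Compl

/-!
# S4829, cyclic Sylow subgroups: the row (helper645)
-/

set_option autoImplicit false
set_option linter.unusedSectionVars false

open Cfsg Subgroup Cfsg.Agent.M23 Cfsg.Agent.H770.CY

namespace Cfsg.Agent.H645.PC

universe u

section grp

variable {S : Type u} [Group S] [Finite S] [IsSimpleGroup S] {p : ℕ} [hp : Fact p.Prime]

theorem center_eq_bot (hna : ¬ IsMulCommutative S) : center S = ⊥ := by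
  rcases IsSimpleGroup.eq_bot_or_eq_top_of_normal (center S) inferInstance with h | h
  · exact h
  · exfalso
    apply hna
    refine ⟨⟨fun a b => ?_⟩⟩
    have h1 : b ∈ center S := h ▸ mem_top b
    exact mem_center_iff.1 h1 a

theorem sylow_ne_bot (P : Sylow p S) (hd : p ∣ Nat.card S) : (P : Subgroup S) ≠ ⊥ := by
  intro h
  have h1 := P.not_dvd_index
  rw [h, index_bot] at h1
  exact h1 hd

/-- Burnside's transfer theorem -/
theorem one_lt_relIndex (hna : ¬ IsMulCommutative S) (hd : p ∣ Nat.card S) (P : Sylow p S) :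
    1 < (centralizer ((P : Subgroup S) : Set S)).relIndex (normalizer ((P : Subgroup S) : Set S)) := by
  have hpos : (centralizer ((P : Subgroup S) : Set S)).relIndex (normalizer ((P : Subgroup S) : Set S)) ≠ 0 :=
    index_ne_zero_of_finite
  by_contra hcon
  have h1 : (centralizer ((P : Subgroup S) : Set S)).relIndex (normalizer ((P : Subgroup S) : Set S)) = 1 := by omega
  have h2 : normalizer ((P : Subgroup S) : Set S) ≤ centralizer ((P : Subgroup S) : Set S) := relIndex_eq_one.1 h1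
  have h3 := MonoidHom.ker_transferSylow_isComplement' P h2
  rcases IsSimpleGroup.eq_bot_or_eq_top_of_normal (MonoidHom.transferSylow P h2).ker inferInstance with h4 | h4
  · rw [h4, isComplement'_bot_left] at h3
    have h5 : IsPGroup p S := by
      intro g
      obtain ⟨k, hk⟩ := P.2 ⟨g, h3 ▸ mem_top g⟩
      exact ⟨k, by simpa using congrArg Subtype.val hk⟩
    have h6 : Nontrivial S := inferInstance
    have h7 := h5.center_nontrivial
    rw [nontrivial_iff_ne_bot] at h7
    exact h7 (center_eq_bot hna)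
  · rw [h4, isComplement'_top_left] at h3
    exact sylow_ne_bot P hd h3

end grp

section row

variable {S : Type u} [Group S] [Fintype S] [IsSimpleGroup S] {p : ℕ} [hp : Fact p.Prime]

/-- the lemma of helper685 -/
def WitOfAd (p : ℕ) (S : Type u) [Group S] [Fintype S] : Prop :=
  ∀ (M : Ideal AlgInt), IsPModular p M → ∀ (Q : Sylow p S) (θ : IrrCharacter S) (X T : Subgroup (MulAut S))
    (hX : ∀ s : S, MulAut.conj s ∈ X), ¬ p ∣ (MulAut.conj : S →* MulAut S).range.relIndex X → T ≤ X →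
    (∀ x ∈ X, x ∈ T ↔ ∀ s, (θ : S → ℂ) (x s) = (θ : S → ℂ) s) →
    (∀ t ∈ T, ∃ s : S, ∀ y ∈ Q, (MulAut.conj s * t) y = y) →
    θ ∈ principalBlock M S → (θ : S → ℂ) ≠ (fun _ => 1) → ¬ p ∣ charDegree (θ : S → ℂ) → Cyc p (θ : S → ℂ) →
    ∃ Ψ : X → ℂ, WitA p M S X hX Ψ ∧ ∀ b : MulAut S, (∀ x ∈ X, b * x * b⁻¹ ∈ X) →
      (∃ x ∈ X, ∀ s, (θ : S → ℂ) (b s) = (θ : S → ℂ) (x s)) → ∀ x y : X, (y : MulAut S) = b * x * b⁻¹ → Ψ y = Ψ x

/-- **Cyclic Sylow `p`-subgroups.** -/
theorem rowA_cyclic_of (hna : ¬ IsMulCommutative S) (hd : p ∣ Nat.card S) (P : Sylow p S)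
    (hcyc : IsCyclic (P : Subgroup S)) (hwit : WitOfAd p S)
    (hfull : Nat.card (P : Subgroup S) = p →
      (centralizer ((P : Subgroup S) : Set S)).relIndex (normalizer ((P : Subgroup S) : Set S)) = p - 1 → RowA p S) :
    RowA p S := by
  have hpp : p.Prime := Fact.out
  have hm1 := one_lt_relIndex hna hd P
  have hP1 := sylow_ne_bot P hd
  have hc := center_eq_bot hna
  obtain ⟨n, hn⟩ := IsPGroup.iff_card.mp P.2
  have hn0 : n ≠ 0 := by
    rintro rfl
    rw [pow_zero] at hn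
    exact hP1 (eq_bot_of_card_eq _ hn)
  -- the inertial index divides `p - 1`
  have hab : ∀ a ∈ (P : Subgroup S), ∀ b ∈ (P : Subgroup S), a * b = b * a := fun a ha b hb =>
    congrArg Subtype.val ((IsCyclic.commGroup (α := (P : Subgroup S))).mul_comm ⟨a, ha⟩ ⟨b, hb⟩)
  have hPC : (P : Subgroup S) ≤ centralizer ((P : Subgroup S) : Set S) := fun x hx =>
    mem_centralizer_iff.2 fun y hy => hab y hy x hx
  have hnd : ¬ p ∣ (centralizer ((P : Subgroup S) : Set S)).relIndex (normalizer ((P : Subgroup S) : Set S)) := by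
    intro h
    have h1 : (P : Subgroup S).relIndex (normalizer ((P : Subgroup S) : Set S)) ∣ (P : Subgroup S).index :=
      ⟨(normalizer ((P : Subgroup S) : Set S)).index, (relIndex_mul_index le_normalizer).symm⟩
    have h2 := relIndex_mul_relIndex _ _ _ hPC (centralizer_le_normalizer ((P : Subgroup S) : Set S))
    exact P.not_dvd_index ((h.trans (Dvd.intro_left _ h2)).trans h1)
  have hn' : ((centralizer ((P : Subgroup S) : Set S)).subgroupOf (normalizer ((P : Subgroup S) : Set S))).Normal := ⟨fun c hc t => by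
    rw [mem_subgroupOf] at hc ⊢
    exact H653.CycGroup.conj_mem_centralizer t.2 hc⟩
  obtain ⟨-, hdvd⟩ := Cfsg.Agent.H641.isCyclic_quotient_and_dvd hpp P.2 hP1 hcyc le_rfl
    (centralizer_le_normalizer _) hnd
  have hle := Nat.le_of_dvd (Nat.sub_pos_of_lt hpp.one_lt) hdvd
  have hpn : p ≤ p ^ n := Nat.le_self_pow hn0 p
  rcases Nat.lt_or_ge ((centralizer ((P : Subgroup S) : Set S)).relIndex (normalizer ((P : Subgroup S) : Set S)) + 1)
    (Nat.card (P : Subgroup S)) with hm2 | hm2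
  · refine H362.CY.rowA_of_compl hna fun A X hX hXA hnX hpX ⟨k, hk⟩ M hM => ?_
    obtain ⟨θ, lam, hθ, hlam, hlamp, hdeg, hne, hcy, hiff⟩ := exists_theta hM P hcyc hm1 hm2 rfl
    have hF : Fam (p := p) (P : Subgroup S) θ lam := ⟨hlam, hlamp, hiff⟩
    let T : Subgroup (MulAut S) :=
      { carrier := {x | x ∈ X ∧ ∀ s, (θ : S → ℂ) (x s) = (θ : S → ℂ) s}
        one_mem' := ⟨one_mem _, fun s => rfl⟩
        mul_mem' := by
          rintro a b ⟨ha, ha'⟩ ⟨hb, hb'⟩
          refine ⟨mul_mem ha hb, fun s => ?_⟩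
          rw [MulAut.mul_apply, ha', hb']
        inv_mem' := by
          rintro a ⟨ha, ha'⟩
          refine ⟨inv_mem ha, fun s => ?_⟩
          rw [← ha' (a⁻¹ s), MulAut.apply_inv_self] }
    obtain ⟨Ψ, h1, h2⟩ := hwit M hM P θ X T hX hpX (fun x hx => hx.1) (fun x hx => ⟨fun h => h.2, fun h => ⟨hx, h⟩⟩)
      (fun t ht => stab hc hcyc hF hX hpX ht.1 ht.2) hθ hne hdeg hcy
    exact ⟨Ψ, h1, fun a ha x y hy => h2 a (fun x hx => hnX a ha x hx) (exists_same hcyc hF hXA hX hnX hk ha) x y hy⟩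
  · have h1 : Nat.card (P : Subgroup S) = p := by
      rw [hn] at hm2 ⊢
      omega
    refine hfull h1 ?_
    rw [h1] at hm2
    omega

end row

end Cfsg.Agent.H645.PC
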