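import Cfsg.Agent.H645.PC.RowCyc
import Cfsg.Agent.H685.CY.AD

/-!
# S4829, cyclic Sylow subgroups: the lemma of helper685 put in (helper645)
-/

set_option autoImplicit false
set_option linter.unusedSectionVars false

open Cfsg Subgroup Cfsg.Agent.M23 Cfsg.Agent.H770.CY

namespace Cfsg.Agent.H645.PC

universe u

variable {S : Type u} [Group S] [Fintype S] [IsSimpleGroup S] {p : ℕ} [hp : Fact p.Prime]

theorem witOfAd (hna : ¬ IsMulCommutative S) : WitOfAd p S :=
  fun _ hM Q θ X T hX hpX _ hT hTC hθ hne hdeg hcy =>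
    H685.CY.wit_of_ad hM (H685.CY.conj_injective hna) X T hX hpX Q θ hT hTC hθ hne hdeg hcy

/-- **Cyclic Sylow `p`-subgroups**, all but the case `|P| = p`, `|N(P) : C(P)| = p - 1`. -/
theorem rowA_cyclic_of' (hna : ¬ IsMulCommutative S) (hd : p ∣ Nat.card S) (P : Sylow p S)
    (hcyc : IsCyclic (P : Subgroup S))
    (hfull : Nat.card (P : Subgroup S) = p →
      (centralizer ((P : Subgroup S) : Set S)).relIndex (normalizer ((P : Subgroup S) : Set S)) = p - 1 → RowA p S) :
    RowA p S :=
  rowA_cyclic_of hna hd P hcyc (witOfAd hna) hfull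

end Cfsg.Agent.H645.PC
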